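import Cfsg.Agent.H0.MFi23.D
set_option maxRecDepth 100000
namespace H0.MFi23
open H0 BN 
theorem c0 : relsW R 0 R.lg ((B.drop 0).take 28) = true := by decide +kernel
theorem c1 : relsW R 0 R.lg ((B.drop 28).take 22) = true := by decide +kernel
theorem c2 : relsW R 0 R.lg ((B.drop 50).take 5) = true := by decide +kernel
theorem c3 : relsW R 0 R.lg ((B.drop 55).take 1) = true := by decide +kernel
theorem c4 : relsW R 0 R.lg ((B.drop 56).take 1) = true := by decide +kernel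
theorem c5 : eqW R 0 R.lg [22] [10, 10, 10, 11, 11, 11, 11] = true := by decide +kernel
theorem c6 : eqW R 0 R.lg [21] [16, 18, 17, 17, 18, 18, 17, 18, 16, 18, 16, 16, 16, 18, 18, 18, 17, 17, 16, 16] = true := by decide +kernel
theorem c7 : eqW R 0 R.lg [20] [18, 16, 17, 18, 16, 17, 18, 17, 18, 16, 16, 18, 17, 18, 17, 17, 16, 16, 16, 16] = true := by decide +kernel
theorem c8 : eqW R 0 R.lg [19] [17, 16, 16, 17, 18, 17, 16, 16, 18, 16, 16, 18, 16, 16, 17, 18, 17, 18, 17] = true := by decide +kernel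
theorem c9 : eqW R 0 R.lg [18] [15, 14, 14, 14, 14, 15, 14, 15, 14, 15, 15, 15, 15, 15, 15, 14, 15, 15, 15, 15, 14, 14, 14] = true := by decide +kernel
theorem c10 : eqW R 0 R.lg [17] [14, 14, 14, 14, 14, 15, 15, 14, 15, 15, 15, 14, 15, 14, 14, 15, 15, 15, 14, 15, 14, 15] = true := by decide +kernel
theorem c11 : eqW R 0 R.lg [16] [14, 15, 15, 14, 14, 15, 15, 15, 14, 14, 14, 15, 15, 15, 14, 14, 15, 15, 15, 15] = true := by decide +kernel
theorem c12 : eqW R 0 R.lg [15] [13, 13, 13, 13, 12, 12, 13, 13, 12, 12, 13, 13, 13, 12, 13, 12] = true := by decide +kernel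
theorem c13 : eqW R 0 R.lg [14] [13, 12, 12, 12, 12, 13, 13, 12, 12, 12, 12, 12, 12, 13, 13, 12] = true := by decide +kernel
theorem c14 : eqW R 0 R.lg [13] [11, 10, 11, 10, 10, 10, 11] = true := by decide +kernel
theorem c15 : eqW R 0 R.lg [12] [11, 10, 11, 10, 10] = true := by decide +kernel
theorem c16 : eqW R 0 R.lg [11] [8, 4, 5, 9, 3, 6, 8, 6, 2, 7, 4, 9, 5, 3, 4, 9, 3, 0, 9, 6, 5] = true := by decide +kernel
theorem c17 : eqW R 0 R.lg [10] [1, 6, 4, 9, 4, 3, 8, 5, 4, 8, 5, 7, 0, 2, 4] = true := by decide +kernel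
theorem c18 : Model.fixW R [] [[10], [11]] = true := by decide +kernel
theorem c19 : Model.growW R [[10], [11]] [0, 0, 0, 1, 0, 1, 0, 1, 0, 1, 0, 1, 0, 1, 0, 1, 0, 1, 0, 1, 0, 1, 0, 1, 0, 1, 0, 1, 0] (Nat.pow 2 0) (ival 0 31671) = true := by decide +kernel
theorem c20 : Model.fixW R [0] [[12], [13]] = true := by decide +kernel
theorem c21 : Model.growW R [[12], [13]] [0, 1, 0, 1, 0, 1, 0, 1, 0, 1, 0, 1, 0, 1, 0, 1, 0, 1, 0, 1, 0, 1, 0, 1, 0, 0] (Nat.pow 2 1) (ival 1 28160) = true := by decide +kernel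
theorem c22 : Model.fixW R [1, 0] [[14], [15]] = true := by decide +kernel
theorem c23 : Model.growW R [[14], [15]] [0, 1, 0, 1, 0, 1, 0, 1, 0, 1, 0, 1, 0, 1, 0, 1, 0, 1, 0, 1, 0, 1, 0, 1, 1] (Nat.pow 2 6320) (ival 6320 21840) = true := by decide +kernel
theorem c24 : Model.fixW R [6320, 1, 0] [[16], [17], [18]] = true := by decide +kernel
theorem c25 : Model.growW R [[16], [17], [18]] [0, 1, 2, 0, 1, 2, 0, 1, 2, 0, 1, 2, 0, 1, 2, 0, 1, 0, 0] (Nat.pow 2 20380) (ival 20380 7776) = true := by decide +kernel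
theorem c26 : Model.fixW R [20380, 6320, 1, 0] [[19], [20], [21]] = true := by decide +kernel
theorem c27 : Model.growW R [[19], [20], [21]] [0, 1, 2, 0, 1, 2] (Nat.pow 2 2) (ival 2 27) = true := by decide +kernel
theorem c28 : Model.growW R [[10], [11]] [0, 0, 0, 1, 0, 1, 0, 1, 0, 1, 0, 1, 0, 1, 0, 1, 0, 1, 0, 1, 0, 1, 0, 1, 0, 1, 0, 1, 0] (Nat.pow 2 0) (ival 0 31671) = true := by decide +kernel
theorem c29 : Model.invW R [[0], [1], [2], [3], [4], [5], [6], [7], [8], [9]] 0 31671 = true := by decide +kernel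
theorem c30 : Model.fixW R [0] [[12], [13]] = true := by decide +kernel
theorem c31 : Model.growW R [[12], [13]] [0, 1, 0, 1, 0, 1, 0, 1, 0, 1, 0, 1, 0, 1, 0, 1, 0, 1, 0, 1, 0, 1, 0, 1, 0, 0] (Nat.pow 2 1) (ival 1 28160) = true := by decide +kernel
theorem c32 : mapsW R [11] (Nat.pow 2 0) (Nat.pow 2 1) = true := by decide +kernel
theorem c33 : Model.growW R [[11], [12], [13]] [0, 0, 1, 2, 0, 1, 2, 0, 1, 2, 0, 1, 2, 0, 1, 2, 0, 1, 2, 0, 1, 0] (Nat.pow 2 0) (ival 0 31671) = true := by decide +kernel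
theorem c34 : Model.growW R [[12], [13]] [0, 1, 0, 1, 0, 1, 0, 1, 0, 1, 0, 1, 0, 1, 0, 1, 0, 1, 0, 1, 0] (Nat.pow 2 31002) (ival 28161 3510) = true := by decide +kernel
theorem c35 : mapsW R [11, 11, 10] (Nat.pow 2 0) (Nat.pow 2 31002) = true := by decide +kernel
theorem c36 : Model.growW R [[11, 11, 10], [12], [13]] [0, 0, 1, 2, 0, 1, 2, 0, 1, 2, 0, 1, 2, 0, 1, 2, 0, 1, 2, 0, 1, 0] (Nat.pow 2 0) (ival 0 31671) = true := by decide +kernel
theorem c37 : relsW R 0 R.lg ((ngR.drop 0).take 10) = true := by decide +kernel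
theorem c38 : relsW R 0 R.lg ((ngR.drop 10).take 10) = true := by decide +kernel
theorem c39 : relsW R 0 R.lg ((xR.drop 0).take 1) = true := by decide +kernel
theorem c40 : Model.fixW R [0] [[0], [1], [2], [3], [4], [5], [6], [8], [9]] = true := by decide +kernel
theorem c41 : Model.invW R [[0], [1], [2], [3], [4], [5], [6], [8], [9]] 1 28160 = true := by decide +kernel
theorem c42 : Model.invW R [[0], [1], [2], [3], [4], [5], [6], [8], [9]] 28161 3510 = true := by decide +kernel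
end H0.MFi23
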