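import Cfsg.Agent.H0.MFi23.K0
import Cfsg.Agent.H0.TCA3.Main
import Cfsg.Agent.H0.TCA4.Main
import Cfsg.Agent.H0.TCD5.Main
import Cfsg.Agent.H0.TCE6.Main
import Cfsg.Agent.H0.TCFi22d.Main
import Cfsg.Agent.H0.TCFi23c.Main
import Cfsg.Agent.H0.TCFi23b.Main
import Cfsg.Agent.H0.TCFi23a.Main
set_option maxRecDepth 100000
namespace H0.MFi23
open H0 BN 
theorem rels : ∀ r ∈ B, ev R.p r = 1 := all_take_done (all_take_step (all_take_step (all_take_step (all_take_step (all_take_step (all_take_zero _ B) (rels_of_relsW R c0)) (rels_of_relsW R c1)) (rels_of_relsW R c2)) (rels_of_relsW R c3)) (rels_of_relsW R c4)) (by decide +kernel)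
theorem defs_ok : DefsOK R.p defs 10 := (defsOK_cons (eq_of_eqW R c17) (by decide) (defsOK_cons (eq_of_eqW R c16) (by decide) (defsOK_cons (eq_of_eqW R c15) (by decide) (defsOK_cons (eq_of_eqW R c14) (by decide) (defsOK_cons (eq_of_eqW R c13) (by decide) (defsOK_cons (eq_of_eqW R c12) (by decide) (defsOK_cons (eq_of_eqW R c11) (by decide) (defsOK_cons (eq_of_eqW R c10) (by decide) (defsOK_cons (eq_of_eqW R c9) (by decide) (defsOK_cons (eq_of_eqW R c8) (by decide) (defsOK_cons (eq_of_eqW R c7) (by decide) (defsOK_cons (eq_of_eqW R c6) (by decide) (defsOK_cons (eq_of_eqW R c5) (by decide) (defsOK_nil _ _))))))))))))))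
variable {G : Type} [Group G] (P : Pres G 10 B)
noncomputable def m : Model G := P.model defs R rels (by decide +kernel) defs_ok R_ge
include P
theorem mR : (m P).R = R := rfl
theorem g_eq {x : ℕ} (h : x < 10) : (m P).g x = P.g x := extG_out defs P.g 10 (Or.inl h)
theorem top : gen (m P).g (lets 10) = ⊤ := (gen_extG defs P.g 10 (by decide)).trans P.top
theorem grel : ∀ r ∈ B, ev (m P).g r = 1 := rels_extG defs 10 (by decide +kernel) P.rel
theorem hi : ∀ x < 10, (m P).g x * (m P).g (inv x) = 1 := inv_of_invChk (grel P) (by decide +kernel)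
theorem upper : Finite G ∧ Nat.card G ≤ 4089470473293004800 := card_of_top (top P) ((chain_step (σ := [[0], [1], [2], [3], [4], [5], [6], [7], [8], [9]]) (n := 31671) H0.TCFi23a.main rfl rfl (rels_of_consChk (grel P) 10 inv (by decide +kernel)) (chain_step (σ := [[0], [1], [2], [3], [4], [5], [6], [8], [9]]) (n := 28160) H0.TCFi23b.main rfl rfl (rels_of_consChk (grel P) 10 inv (by decide +kernel)) (chain_step (σ := [[0], [1], [2], [3], [4], [5], [8], [9]]) (n := 364) H0.TCFi23c.main rfl rfl (rels_of_consChk (grel P) 10 inv (by decide +kernel)) (chain_step (σ := [[1], [2], [3], [4], [5], [8], [9]]) (n := 243) H0.TCFi22d.main rfl rfl (rels_of_consChk (grel P) 10 inv (by decide +kernel)) (chain_step (σ := [[2], [3], [4], [5], [8], [9]]) (n := 27) H0.TCE6.main rfl rfl (rels_of_consChk (grel P) 10 inv (by decide +kernel)) (chain_step (σ := [[2], [3], [4], [5], [8]]) (n := 16) H0.TCD5.main rfl rfl (rels_of_consChk (grel P)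 10 inv (by decide +kernel)) (chain_step (σ := [[2], [3], [4], [5]]) (n := 5) H0.TCA4.main rfl rfl (rels_of_consChk (grel P) 10 inv (by decide +kernel)) (chain_step (σ := [[2], [3], [4]]) (n := 24) H0.TCA3.main rfl rfl (rels_of_consChk (grel P) 10 inv (by decide +kernel)) (chain_start _))))))))).imp_right fun h => h.trans (by decide +kernel))
theorem fin : Finite G := (upper P).1
theorem card_base : Nat.card G = 4089470473293004800 ∧ (m P).pst [2, 20380, 6320, 1, 0] = ⊥ :=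
  haveI := fin P
  (m P).card_done ((m P).card_step (lo := 2) (d := 27) (Model.via _ (mR P) (fun R => Model.fixW R [20380, 6320, 1, 0] [[19], [20], [21]]) c26) ((m P).inOrb_grow [0, 1, 2, 0, 1, 2] ((m P).inOrb_self _ 2) (Model.via _ (mR P) (fun R => Model.growW R [[19], [20], [21]] [0, 1, 2, 0, 1, 2] (Nat.pow 2 2) (ival 2 27)) c27)) (Model.via _ (mR P) (fun R => Nat.ble (2 + 27) R.N) (by decide +kernel)) ((m P).card_step (lo := 20380) (d := 7776) (Model.via _ (mR P) (fun R => Model.fixW R [6320, 1, 0] [[16], [17], [18]]) c24) ((m P).inOrb_grow [0, 1, 2, 0, 1, 2, 0, 1, 2, 0, 1, 2, 0, 1, 2, 0, 1, 0, 0] ((m P).inOrb_self _ 20380) (Model.via _ (mR P) (fun R => Model.growW R [[16], [17], [18]] [0, 1, 2, 0, 1, 2, 0, 1, 2, 0, 1, 2, 0, 1, 2, 0, 1, 0, 0] (Nat.pow 2 20380) (ival 20380 7776)) c25)) (Model.via _ (mR P) (fun R => Nat.ble (20380 + 7776) R.N) (by decide +kernel)) ((m P).card_step (lo := 6320) (d := 21840) (Model.via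 _ (mR P) (fun R => Model.fixW R [1, 0] [[14], [15]]) c22) ((m P).inOrb_grow [0, 1, 0, 1, 0, 1, 0, 1, 0, 1, 0, 1, 0, 1, 0, 1, 0, 1, 0, 1, 0, 1, 0, 1, 1] ((m P).inOrb_self _ 6320) (Model.via _ (mR P) (fun R => Model.growW R [[14], [15]] [0, 1, 0, 1, 0, 1, 0, 1, 0, 1, 0, 1, 0, 1, 0, 1, 0, 1, 0, 1, 0, 1, 0, 1, 1] (Nat.pow 2 6320) (ival 6320 21840)) c23)) (Model.via _ (mR P) (fun R => Nat.ble (6320 + 21840) R.N) (by decide +kernel)) ((m P).card_step (lo := 1) (d := 28160) (Model.via _ (mR P) (fun R => Model.fixW R [0] [[12], [13]]) c20) ((m P).inOrb_grow [0, 1, 0, 1, 0, 1, 0, 1, 0, 1, 0, 1, 0, 1, 0, 1, 0, 1, 0, 1, 0, 1, 0, 1, 0, 0] ((m P).inOrb_self _ 1) (Model.via _ (mR P) (fun R => Model.growW R [[12], [13]] [0, 1, 0, 1, 0, 1, 0, 1, 0, 1, 0, 1, 0, 1, 0, 1, 0, 1, 0, 1, 0, 1, 0, 1, 0, 0] (Nat.pow 2 1) (ival 1 28160)) c21)) (Model.via _ (mR P) (fun R => Nat.ble (1 + 28160) R.N) (by decide +kernel)) ((m P).card_step (lo := 0)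 (d := 31671) (Model.via _ (mR P) (fun R => Model.fixW R [] [[10], [11]]) c18) ((m P).inOrb_grow [0, 0, 0, 1, 0, 1, 0, 1, 0, 1, 0, 1, 0, 1, 0, 1, 0, 1, 0, 1, 0, 1, 0, 1, 0, 1, 0, 1, 0] ((m P).inOrb_self _ 0) (Model.via _ (mR P) (fun R => Model.growW R [[10], [11]] [0, 0, 0, 1, 0, 1, 0, 1, 0, 1, 0, 1, 0, 1, 0, 1, 0, 1, 0, 1, 0, 1, 0, 1, 0, 1, 0, 1, 0] (Nat.pow 2 0) (ival 0 31671)) c19)) (Model.via _ (mR P) (fun R => Nat.ble (0 + 31671) R.N) (by decide +kernel)) ((m P).card_start)))))) (upper P).2 (by decide +kernel)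
theorem card : Nat.card G = 4089470473293004800 := (card_base P).1
theorem base : (m P).pst [2, 20380, 6320, 1, 0] = ⊥ := (card_base P).2
theorem inj : Function.Injective (m P).φ := (m P).inj_of_base (base P)
theorem trans : (m P).orb ⊤ 0 = Set.Ico 0 (0 + 31671) :=
  (m P).orb_eq_ico' ((m P).inOrb_mono le_top ((m P).inOrb_grow [0, 0, 0, 1, 0, 1, 0, 1, 0, 1, 0, 1, 0, 1, 0, 1, 0, 1, 0, 1, 0, 1, 0, 1, 0, 1, 0, 1, 0] ((m P).inOrb_self _ 0) (Model.via _ (mR P) (fun R => Model.growW R [[10], [11]] [0, 0, 0, 1, 0, 1, 0, 1, 0, 1, 0, 1, 0, 1, 0, 1, 0, 1, 0, 1, 0, 1, 0, 1, 0, 1, 0, 1, 0] (Nat.pow 2 0) (ival 0 31671)) c28))) (top P).ge (Model.via _ (mR P) (fun R => Model.invW R [[0], [1], [2], [3], [4], [5], [6], [7], [8], [9]] 0 31671) c29) (by decide)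
theorem sub1 : (m P).InOrb (gen (m P).g [[12], [13]]) 1 (ival 1 28160) := ((m P).inOrb_grow [0, 1, 0, 1, 0, 1, 0, 1, 0, 1, 0, 1, 0, 1, 0, 1, 0, 1, 0, 1, 0, 1, 0, 1, 0, 0] ((m P).inOrb_self _ 1) (Model.via _ (mR P) (fun R => Model.growW R [[12], [13]] [0, 1, 0, 1, 0, 1, 0, 1, 0, 1, 0, 1, 0, 1, 0, 1, 0, 1, 0, 1, 0, 1, 0, 1, 0, 0] (Nat.pow 2 1) (ival 1 28160)) c31))
theorem sub28161 : (m P).InOrb (gen (m P).g [[12], [13]]) 31002 (ival 28161 3510) := ((m P).inOrb_grow [0, 1, 0, 1, 0, 1, 0, 1, 0, 1, 0, 1, 0, 1, 0, 1, 0, 1, 0, 1, 0] ((m P).inOrb_self _ 31002) (Model.via _ (mR P) (fun R => Model.growW R [[12], [13]] [0, 1, 0, 1, 0, 1, 0, 1, 0, 1, 0, 1, 0, 1, 0, 1, 0, 1, 0, 1, 0] (Nat.pow 2 31002) (ival 28161 3510)) c34))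
theorem coatom : IsCoatom ((m P).pst [0]) := (m P).coatom (trans P) (by decide) ((m P).maxUpTo_step ((m P).maxUpTo_step ((m P).maxUpTo_one 31671) (Model.via _ (mR P) (fun R => Model.fixW R [0] [[12], [13]]) c30) (sub1 P) (Model.via _ (mR P) (fun R => Nat.ble (1 + 28160) R.N) (by decide +kernel)) (Model.via _ (mR P) (fun R => Nat.ble (0 + 31671) R.N) (by decide +kernel)) (Model.via _ (mR P) (fun R => mapsW R [11] (Nat.pow 2 0) (Nat.pow 2 1)) c32) ((m P).inOrb_grow [0, 0, 1, 2, 0, 1, 2, 0, 1, 2, 0, 1, 2, 0, 1, 2, 0, 1, 2, 0, 1, 0] ((m P).inOrb_self _ 0) (Model.via _ (mR P) (fun R => Model.growW R [[11], [12], [13]] [0, 0, 1, 2, 0, 1, 2, 0, 1, 2, 0, 1, 2, 0, 1, 2, 0, 1, 2, 0, 1, 0] (Nat.pow 2 0) (ival 0 31671)) c33))) (Model.via _ (mR P) (fun R => Model.fixW R [0] [[12], [13]]) c30) (sub28161 P) (Model.via _ (mR P) (fun R => Nat.ble (28161 + 3510) R.N) (by decide +kernel)) (Model.via _ (mR P) (fun R => Nat.ble (0 + 31671)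 R.N) (by decide +kernel)) (Model.via _ (mR P) (fun R => mapsW R [11, 11, 10] (Nat.pow 2 0) (Nat.pow 2 31002)) c35) ((m P).inOrb_grow [0, 0, 1, 2, 0, 1, 2, 0, 1, 2, 0, 1, 2, 0, 1, 2, 0, 1, 2, 0, 1, 0] ((m P).inOrb_self _ 0) (Model.via _ (mR P) (fun R => Model.growW R [[11, 11, 10], [12], [13]] [0, 0, 1, 2, 0, 1, 2, 0, 1, 2, 0, 1, 2, 0, 1, 2, 0, 1, 2, 0, 1, 0] (Nat.pow 2 0) (ival 0 31671)) c36)))
theorem ng : ∀ N : Subgroup G, N.Normal → ev (m P).g [22] ∈ N → N = ⊤ :=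
  ng_top (hi P) ngSt [22] (by decide) (all_take_done (all_take_step (all_take_step (all_take_zero _ ngR) ((m P).ev_one (inj P) (Model.via _ (mR P) (fun R => relsW R 0 R.lg ((ngR.drop 0).take 10)) c37))) ((m P).ev_one (inj P) (Model.via _ (mR P) (fun R => relsW R 0 R.lg ((ngR.drop 10).take 10)) c38))) (by decide +kernel)) (top P) (by decide)
theorem card_stab : Nat.card ((m P).pst [0]) = 129123503308800 := (m P).card_stab (trans P) (by rw [card P]) (by decide)
theorem simple : IsSimpleGroup G :=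
  haveI := fin P
  simple_of_coatom _ (coatom P) (fun N hN h => (m P).normal_le_stab (trans P) (base P) (by decide) N h)
    (ev (m P).g [22]) 23 (by rw [← ev_wpow]; exact (all_take_done (all_take_step (all_take_zero _ xR) ((m P).ev_one (inj P) (Model.via _ (mR P) (fun R => relsW R 0 R.lg ((xR.drop 0).take 1)) c39))) (by decide +kernel)) _ (List.mem_singleton_self _))
    (by rw [card_stab P]; decide +kernel) (ng P)
theorem stab : (gen (m P).g subs).index = 31671 ∧ gen (m P).g subs = (m P).pst [0] :=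
  (m P).stab_index ((m P).gen_le_pst (Model.via _ (mR P) (fun R => Model.fixW R [0] [[0], [1], [2], [3], [4], [5], [6], [8], [9]]) c40)) (top P ▸ chain_index (σ := lets 10) H0.TCFi23a.main rfl rfl (rels_of_consChk (grel P) 10 inv (by decide +kernel))) (trans P)
theorem gsubs : gen (m P).g subs = gen P.g subs := gen_extG defs P.g 10 (by decide +kernel)
theorem so1 : (m P).orb (gen (m P).g subs) ((m P).φ (ev (m P).g [11]) 0) = Set.Ico 1 (1 + 28160) := by
  rw [(m P).apply_w (Model.via _ (mR P) (fun R => Nat.ble (Nat.succ 0) R.N) (by decide +kernel)) (Model.via _ (mR P) (fun R => mapsW R [11] (Nat.pow 2 0) (Nat.pow 2 1)) c32)]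
  exact (m P).orb_eq_ico' ((m P).inOrb_mono (((m P).gen_le_pst (Model.via _ (mR P) (fun R => Model.fixW R [0] [[12], [13]]) c30)).trans (stab P).2.ge) (sub1 P)) le_rfl (Model.via _ (mR P) (fun R => Model.invW R [[0], [1], [2], [3], [4], [5], [6], [8], [9]] 1 28160) c41) (by decide)
theorem co1 : ∃ q : G ⧸ gen (m P).g subs, (MulAction.orbit (gen (m P).g subs) q).ncard = 28160 :=
  ⟨_, ((m P).ncard_orbit_coset (stab P).2 _ _).1.trans (by rw [so1 P, Model.ncard_ico])⟩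
theorem so28161 : (m P).orb (gen (m P).g subs) ((m P).φ (ev (m P).g [11, 11, 10]) 0) = Set.Ico 28161 (28161 + 3510) := by
  rw [(m P).apply_w (Model.via _ (mR P) (fun R => Nat.ble (Nat.succ 0) R.N) (by decide +kernel)) (Model.via _ (mR P) (fun R => mapsW R [11, 11, 10] (Nat.pow 2 0) (Nat.pow 2 31002)) c35)]
  exact (m P).orb_eq_ico' ((m P).inOrb_mono (((m P).gen_le_pst (Model.via _ (mR P) (fun R => Model.fixW R [0] [[12], [13]]) c30)).trans (stab P).2.ge) (sub28161 P)) le_rfl (Model.via _ (mR P) (fun R => Model.invW R [[0], [1], [2], [3], [4], [5], [6], [8], [9]] 28161 3510) c42) (by decide)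
theorem co28161 : ∃ q : G ⧸ gen (m P).g subs, (MulAction.orbit (gen (m P).g subs) q).ncard = 3510 :=
  ⟨_, ((m P).ncard_orbit_coset (stab P).2 _ _).1.trans (by rw [so28161 P, Model.ncard_ico])⟩
end H0.MFi23
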